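import Groth.Agent.Tate.Noether
import Mathlib.AlgebraicGeometry.Morphisms.Flat
import Mathlib.AlgebraicGeometry.OpenImmersion
import Mathlib.Algebra.Category.Ring.Epi
import Mathlib.RingTheory.RingHom.Flat

noncomputable section

universe u

open TensorProduct CategoryTheory AlgebraicGeometry

namespace Groth.Agent.NoetherOpen

theorem epi_of_mono_specMap {R S : CommRingCat.{u}} (f : R ⟶ S) [Mono (Spec.map f)] : Epi f :=
  ⟨fun g₁ g₂ hg => Spec.map_injective ((cancel_mono (Spec.map f)).1 (by
    rw [← Spec.map_comp, ← Spec.map_comp, hg]))⟩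

theorem flat_of_openImmersion {B' B : Type u} [CommRing B'] [CommRing B] [Algebra B' B]
    (h : IsOpenImmersion (Spec.map (CommRingCat.ofHom (algebraMap B' B)))) :
    (algebraMap B' B).Flat := by
  have : Flat (Spec.map (CommRingCat.ofHom (algebraMap B' B))) := inferInstance
  exact (HasRingHomProperty.Spec_iff (P := @Flat)).1 this

theorem noetherDifferent_openImmersion {A B' B : Type u} [CommRing A] [CommRing B']
    [CommRing B] [Algebra A B'] [Algebra A B] [Algebra B' B] [IsScalarTower A B' B]
    [Algebra.FiniteType A B']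
    (h : IsOpenImmersion (Spec.map (CommRingCat.ofHom (algebraMap B' B)))) :
    Disc.noetherDifferent A B = (Disc.noetherDifferent A B').map (algebraMap B' B) := by
  classical
  haveI : Epi (CommRingCat.ofHom (algebraMap B' B)) := epi_of_mono_specMap _
  let ι := IsScalarTower.toAlgHom A B' B
  let φ : B' ⊗[A] B' →ₐ[A] B ⊗[A] B := Algebra.TensorProduct.map ι ι
  letI : Algebra (B' ⊗[A] B') (B ⊗[A] B) := φ.toRingHom.toAlgebra
  haveI : Module.Flat (B' ⊗[A] B') (B ⊗[A] B) :=
    RingHom.Flat.tensorProductMap (f := ι) (g := ι) (flat_of_openImmersion h) (flat_of_openImmersion h)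
  let μ' := Algebra.TensorProduct.lmul' (S := B') A
  let μ := Algebra.TensorProduct.lmul' (S := B) A
  let I := RingHom.ker μ'
  have hμφ : ∀ z, μ (φ z) = algebraMap B' B (μ' z) := by
    intro z
    induction z using TensorProduct.induction_on with
    | zero => simp
    | tmul u v => simp [φ, μ, μ', ι]
    | add a b ha hb => simp only [map_add, ha, hb]
  let J := I.map φ.toRingHom
  have hdiag : ∀ v : B, (1 : B) ⊗ₜ[A] v - v ⊗ₜ[A] (1 : B) ∈ J := by
    intro v
    have hagree : (CommRingCat.ofHom (algebraMap B' B) ≫ CommRingCat.ofHom ((Ideal.Quotient.mk J).comp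
          (Algebra.TensorProduct.includeRight (A := B)).toRingHom)) =
        CommRingCat.ofHom (algebraMap B' B) ≫ CommRingCat.ofHom ((Ideal.Quotient.mk J).comp
          (Algebra.TensorProduct.includeLeftRingHom : B →+* B ⊗[A] B)) := by
      refine CommRingCat.hom_ext (RingHom.ext fun b => ?_)
      refine Ideal.Quotient.eq.2 ?_
      have := Ideal.mem_map_of_mem φ.toRingHom
        (show (1 : B') ⊗ₜ[A] b - b ⊗ₜ[A] (1 : B') ∈ I by simp [I, μ', RingHom.mem_ker])
      simp [φ, ι] at this
      exact this
    exact Ideal.Quotient.eq.1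
      (RingHom.congr_fun (congrArg CommRingCat.Hom.hom ((cancel_epi _).1 hagree)) v)
  have hker : RingHom.ker μ = J := by
    refine le_antisymm (fun w hw => ?_) (Ideal.map_le_iff_le_comap.2 fun z hz => ?_)
    · have key : ∀ w : B ⊗[A] B, w - μ w ⊗ₜ 1 ∈ J := by
        intro w
        induction w using TensorProduct.induction_on with
        | zero => simp
        | tmul u v =>
          rw [show u ⊗ₜ[A] v - μ (u ⊗ₜ[A] v) ⊗ₜ[A] (1 : B) =
              (u ⊗ₜ[A] (1 : B)) * (1 ⊗ₜ v - v ⊗ₜ 1) by simp [μ, mul_sub]]
          exact J.mul_mem_left _ (hdiag v)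
        | add a b ha hb =>
          rw [map_add, add_tmul, add_sub_add_comm]
          exact add_mem ha hb
      have := key w
      rwa [RingHom.mem_ker.1 hw, zero_tmul, sub_zero] at this
    · change μ (φ z) = 0
      rw [hμφ, RingHom.mem_ker.1 hz, map_zero]
  refine le_antisymm ?_ ?_
  · refine Ideal.map_le_iff_le_comap.2 fun z hz => ?_
    rw [Submodule.mem_annihilator] at hz
    have hw := Groth.Agent.Tate.mem_map_annihilator (C := B' ⊗[A] B') (C' := B ⊗[A] B) (I := I) (x := z)
      (KaehlerDifferential.ideal_fg A B') fun y hy => hz _ (hker.ge (Ideal.mem_map_of_mem _ hy))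
    have hle : (Submodule.annihilator I).map φ.toRingHom ≤
        ((Disc.noetherDifferent A B').map (algebraMap B' B)).comap μ.toRingHom := by
      refine Ideal.map_le_iff_le_comap.2 fun y hy => ?_
      change μ (φ y) ∈ (Disc.noetherDifferent A B').map (algebraMap B' B)
      rw [hμφ]
      exact Ideal.mem_map_of_mem _ (Ideal.mem_map_of_mem _ hy)
    exact hle hw
  · refine Ideal.map_le_iff_le_comap.2 (Ideal.map_le_iff_le_comap.2 fun y hy => ?_)
    rw [Submodule.mem_annihilator] at hy
    change algebraMap B' B (μ' y) ∈ Disc.noetherDifferent A B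
    rw [← hμφ]
    refine Ideal.mem_map_of_mem _ (Submodule.mem_annihilator.2 fun z hz => ?_)
    have hzJ : z ∈ J := hker.le hz
    rw [smul_eq_mul]
    clear hz
    induction hzJ using Submodule.span_induction with
    | mem t ht =>
      obtain ⟨t, ht, rfl⟩ := ht
      change φ y * φ t = 0
      rw [← map_mul, show y * t = 0 from hy t ht, map_zero]
    | zero => exact mul_zero _
    | add a b _ _ ha hb => rw [mul_add, ha, hb, add_zero]
    | smul c a _ ha => rw [smul_eq_mul, mul_left_comm, ha, mul_zero]

end Groth.Agent.NoetherOpen
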